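import Mathlib
import Groth.Prelude.Def_W4c1imperftorsorsPerf

/-! The preperfection of `R[α]/(uα, α² - v²)` is `R`. -/

set_option autoImplicit false
set_option linter.style.haveILetI false

open TensorProduct Polynomial W4c1imperftorsors

namespace Groth.Agent.PrePerfSq

universe u

variable (p : ℕ) [Fact p.Prime] {R : Type u} [CommRing R] [CharP R p] (u₀ v : R)

/-- the algebra `R[α]/(uα, α² - v²)` -/
abbrev B : Type u := R[X] ⧸ Ideal.span {(C u₀ * X : R[X]), X ^ 2 - C (v ^ 2)}

/-- the class of `α` -/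
noncomputable def α : B u₀ v := Ideal.Quotient.mk _ X

theorem u_mul_α : algebraMap R (B u₀ v) u₀ * α u₀ v = 0 :=
  Ideal.Quotient.eq_zero_iff_mem.mpr (Ideal.subset_span (Set.mem_insert _ _))

theorem α_sq : α u₀ v ^ 2 = algebraMap R (B u₀ v) (v ^ 2) := by
  rw [← sub_eq_zero]
  exact Ideal.Quotient.eq_zero_iff_mem.mpr (Ideal.subset_span (Set.mem_insert_of_mem _ rfl))

theorem exists_rep (b : B u₀ v) : ∃ r s : R, b = algebraMap R _ r + algebraMap R _ s * α u₀ v := by
  obtain ⟨f, rfl⟩ := Ideal.Quotient.mk_surjective b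
  induction f using Polynomial.induction_on with
  | C a => exact ⟨a, 0, by rw [map_zero, zero_mul, add_zero]; rfl⟩
  | add f g hf hg =>
    obtain ⟨r, s, hr⟩ := hf
    obtain ⟨r', s', hr'⟩ := hg
    exact ⟨r + r', s + s', by rw [map_add, hr, hr', map_add, map_add]; ring⟩
  | monomial n a h =>
    obtain ⟨r, s, hr⟩ := h
    refine ⟨s * v ^ 2, r, ?_⟩
    rw [show C a * X ^ (n + 1) = C a * X ^ n * X by ring, map_mul, hr]
    show (_ + _) * α u₀ v = _
    rw [add_mul, mul_assoc, ← sq, α_sq, ← map_mul, add_comm]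

variable (i : ℕ)

/-- `r ⊗ b` -/
noncomputable def tm (r : R) (b : B u₀ v) : Twist p R (B u₀ v) i := r ⊗ₜ (aEquiv p R (B u₀ v) i).symm b

theorem tm_smul (r a : R) (b : B u₀ v) :
    tm p u₀ v i r (algebraMap R _ a * b) = tm p u₀ v i (r * a ^ p ^ i) b := by
  show r ⊗ₜ[Src p R i] ((aEquiv p R (B u₀ v) i).symm (algebraMap R _ a * b)) = _
  have h1 : (aEquiv p R (B u₀ v) i).symm (algebraMap R _ a * b) =
      ((srcEquiv p R i).symm a) • (aEquiv p R (B u₀ v) i).symm b := by
    rw [Algebra.smul_def, algebraMap_aSrc, RingEquiv.apply_symm_apply, map_mul]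
  rw [h1, ← TensorProduct.smul_tmul, Algebra.smul_def, algebraMap_src, RingEquiv.apply_symm_apply, mul_comm (a ^ p ^ i) r]
  rfl

theorem twist_rep (z : Twist p R (B u₀ v) i) :
    ∃ r s : R, z = tm p u₀ v i r 1 + tm p u₀ v i s (α u₀ v) := by
  induction z using TensorProduct.induction_on with
  | zero => exact ⟨0, 0, by simp [tm]⟩
  | tmul c b =>
    obtain ⟨b, rfl⟩ := (aEquiv p R (B u₀ v) i).symm.surjective b
    obtain ⟨r, s, rfl⟩ := exists_rep u₀ v b
    refine ⟨c * r ^ p ^ i, c * s ^ p ^ i, ?_⟩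
    rw [← tm_smul, ← tm_smul, mul_one]
    show c ⊗ₜ _ = _
    rw [map_add, TensorProduct.tmul_add]
    rfl
  | add x y hx hy =>
    obtain ⟨r, s, rfl⟩ := hx
    obtain ⟨r', s', rfl⟩ := hy
    exact ⟨r + r', s + s', by simp only [tm, TensorProduct.add_tmul]; abel⟩

/-- evaluation of the twist at a root `τ` of the twisted equations -/
theorem exists_eval {T : Type u} [CommRing T] [Algebra R T] (τ : T) (h1 : algebraMap R T u₀ ^ p ^ i * τ = 0)
    (h2 : τ ^ 2 = algebraMap R T v ^ (2 * p ^ i)) :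
    ∃ φ : Twist p R (B u₀ v) i →+ T, ∀ r s : R,
      φ (tm p u₀ v i r 1 + tm p u₀ v i s (α u₀ v)) = algebraMap R T r + algebraMap R T s * τ := by
  classical
  letI : Algebra (Src p R i) T := ((algebraMap R T).comp (algebraMap (Src p R i) R)).toAlgebra
  haveI : IsScalarTower (Src p R i) R T := IsScalarTower.of_algebraMap_eq fun _ => rfl
  let g₀ : R[X] →+* T := eval₂RingHom ((algebraMap R T).comp (iterateFrobenius R p i)) τ
  have hg : ∀ a ∈ Ideal.span {(C u₀ * X : R[X]), X ^ 2 - C (v ^ 2)}, g₀ a = 0 := fun a ha => by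
    refine RingHom.mem_ker.mp ((Ideal.span_le.mpr ?_) ha)
    rintro x (rfl | rfl)
    · simpa [g₀, iterateFrobenius_def] using h1
    · simp [g₀, RingHom.mem_ker, iterateFrobenius_def, h2, sub_eq_zero, map_pow, eval₂_pow, ← pow_mul]
      rw [mul_comm]
  let g : B u₀ v →+* T := Ideal.Quotient.lift _ g₀ hg
  let f : ASrc p R (B u₀ v) i →ₐ[Src p R i] T :=
    { g.comp (aEquiv p R (B u₀ v) i : ASrc p R (B u₀ v) i →+* B u₀ v) with
      commutes' := fun s => by
        show g (aEquiv p R (B u₀ v) i (algebraMap (Src p R i) (ASrc p R (B u₀ v) i) s)) = _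
        rw [algebraMap_aSrc, RingEquiv.apply_symm_apply]
        show g₀ (C (srcEquiv p R i s)) = algebraMap R T (algebraMap (Src p R i) R s)
        simp [g₀, iterateFrobenius_def, algebraMap_src] }
  let φ := Algebra.TensorProduct.lift (IsScalarTower.toAlgHom (Src p R i) R T) f fun _ _ => Commute.all _ _
  refine ⟨φ.toRingHom.toAddMonoidHom, fun r s => ?_⟩
  have hφ : ∀ r b, φ (tm p u₀ v i r b) = algebraMap R T r * g b := fun r b => by
    show φ (r ⊗ₜ _) = _
    rw [Algebra.TensorProduct.lift_tmul]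
    rfl
  show φ (_ + _) = _
  rw [map_add, hφ, hφ, map_one, mul_one]
  congr 2
  show g₀ X = τ
  simp [g₀]

theorem main (hp : p ≠ 2) (huv : u₀ * v = 0)
    (hsep : ∀ N : ℕ, 1 ≤ N → ∀ g : R,
      (∀ n : ℕ, g ∈ Ideal.span {v ^ n} ⊔ Ideal.span {u₀ ^ N}) → g ∈ Ideal.span {u₀ ^ N})
    [CharP (B u₀ v) p] :
    Function.Bijective (algebraMap R ↥(prePerf p R (B u₀ v))) := by
  classical
  have hpq : ∀ j, 1 ≤ p ^ j := fun j => Nat.one_le_pow _ _ (Fact.out : p.Prime).pos
  have huv' : ∀ j, u₀ ^ p ^ j * v ^ p ^ j = 0 := fun j => by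
    rw [← mul_pow, huv, zero_pow (by have := hpq j; omega)]
  -- the coordinates
  have hzero : ∀ j r s, tm p u₀ v j r 1 + tm p u₀ v j s (α u₀ v) = 0 → r = 0 ∧ s ∈ Ideal.span {u₀ ^ p ^ j} := by
    intro j r s h
    obtain ⟨φ, hφ⟩ := exists_eval p u₀ v j (T := R) (v ^ p ^ j) (huv' j)
      (by rw [← pow_mul, mul_comm]; rfl)
    have h1 := hφ r s
    rw [h, map_zero] at h1
    simp only [Algebra.algebraMap_self, RingHom.id_apply] at h1
    have hs : s ∈ Ideal.span {u₀ ^ p ^ j} := by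
      let Rb := R ⧸ Ideal.span {u₀ ^ p ^ j}
      rcases subsingleton_or_nontrivial Rb with hR | hR
      · exact Ideal.Quotient.eq_zero_iff_mem.1 (Subsingleton.elim _ _)
      let F : Rb[X] := X ^ 2 - C (algebraMap R Rb v ^ (2 * p ^ j))
      obtain ⟨ψ, hψ⟩ := exists_eval p u₀ v j (T := AdjoinRoot F) (AdjoinRoot.root F)
        (by
          rw [IsScalarTower.algebraMap_apply R Rb (AdjoinRoot F), ← map_pow, ← map_pow,
            show algebraMap R Rb (u₀ ^ p ^ j) = 0 from Ideal.Quotient.eq_zero_iff_mem.2 (Ideal.mem_span_singleton_self _),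
            map_zero, zero_mul])
        (by
          have := AdjoinRoot.eval₂_root F
          simp only [F, eval₂_sub, eval₂_X_pow, eval₂_C, sub_eq_zero] at this
          rw [this, IsScalarTower.algebraMap_apply R Rb (AdjoinRoot F), map_pow]
          rfl)
      have h2 := hψ r s
      rw [h, map_zero, IsScalarTower.algebraMap_apply R Rb (AdjoinRoot F) r,
        IsScalarTower.algebraMap_apply R Rb (AdjoinRoot F) s] at h2
      have h3 : AdjoinRoot.mk F (C (algebraMap R Rb r) + C (algebraMap R Rb s) * X) = 0 := by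
        rw [map_add, map_mul, AdjoinRoot.mk_C, AdjoinRoot.mk_C, AdjoinRoot.mk_X]
        exact h2.symm
      rw [AdjoinRoot.mk_eq_zero] at h3
      have h4 : C (algebraMap R Rb r) + C (algebraMap R Rb s) * X = 0 := by
        by_contra hne
        refine (monic_X_pow_sub_C (algebraMap R Rb v ^ (2 * p ^ j)) two_ne_zero).not_dvd_of_natDegree_lt hne ?_ h3
        rw [natDegree_X_pow_sub_C, add_comm]
        exact lt_of_le_of_lt natDegree_linear_le one_lt_two
      have h5 := congrArg (fun f : Rb[X] => f.coeff 1) h4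
      simp at h5
      exact Ideal.Quotient.eq_zero_iff_mem.1 h5
    refine ⟨?_, hs⟩
    obtain ⟨t, rfl⟩ := Ideal.mem_span_singleton'.1 hs
    rw [mul_assoc, huv', mul_zero, add_zero] at h1
    exact h1.symm
  -- relative Frobenius in coordinates
  have hα : α u₀ v ^ p = algebraMap R _ (v ^ (p - 1)) * α u₀ v := by
    obtain ⟨k, hk⟩ := (Fact.out : p.Prime).odd_of_ne_two hp
    rw [hk, pow_succ, pow_mul, α_sq, ← map_pow, Nat.add_sub_cancel, ← pow_mul]
  have hF : ∀ j r s, relFrob p R (B u₀ v) j (tm p u₀ v (j + 1) r 1 + tm p u₀ v (j + 1) s (α u₀ v)) =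
      tm p u₀ v j r 1 + tm p u₀ v j (s * (v ^ (p - 1)) ^ p ^ j) (α u₀ v) := by
    intro j r s
    have hF0 : ∀ c b, relFrob p R (B u₀ v) j (tm p u₀ v (j + 1) c b) = tm p u₀ v j c (b ^ p) := fun c b => by
      show relFrobAux p R (B u₀ v) j (c ⊗ₜ _) = _
      rw [relFrobAux, Algebra.TensorProduct.lift_tmul]
      show (c ⊗ₜ[Src p R j] (1 : ASrc p R (B u₀ v) j)) * ((1 : R) ⊗ₜ[Src p R j] (aEquiv p R (B u₀ v) j).symm (b ^ p)) = _
      rw [Algebra.TensorProduct.tmul_mul_tmul, mul_one, one_mul]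
      rfl
    rw [map_add, hF0, hF0, one_pow, hα, tm_smul]
  refine ⟨fun a b h => ?_, fun x => ?_⟩
  · have h' := congrArg (fun x : ↥(prePerf p R (B u₀ v)) => (x : Π j, Twist p R (B u₀ v) j) 0) h
    have h0 := hzero 0 (a - b) 0 (by
      have h'' : tm p u₀ v 0 a 1 = tm p u₀ v 0 b 1 := h'
      simp only [tm, TensorProduct.sub_tmul, TensorProduct.zero_tmul, add_zero] at h'' ⊢
      rw [h'', sub_self])
    exact sub_eq_zero.1 h0.1
  · have hx : ∀ j, relFrob p R (B u₀ v) j ((x : Π j, Twist p R (B u₀ v) j) (j + 1)) = (x : Π j, Twist p R (B u₀ v) j) j := by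
      have := x.2
      simp only [prePerf, Algebra.mem_iInf] at this
      exact fun j => this j
    choose r s hrs using fun j => twist_rep p u₀ v j ((x : Π j, Twist p R (B u₀ v) j) j)
    have hstep : ∀ j, r (j + 1) = r j ∧ s j - s (j + 1) * (v ^ (p - 1)) ^ p ^ j ∈ Ideal.span {u₀ ^ p ^ j} := fun j => by
      have h1 := hx j
      rw [hrs (j + 1), hF, hrs j] at h1
      have h2 := hzero j (r j - r (j + 1)) (s j - s (j + 1) * (v ^ (p - 1)) ^ p ^ j) (by
        simp only [tm, TensorProduct.sub_tmul] at h1 ⊢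
        rw [← add_sub_add_comm, h1, sub_self])
      exact ⟨(sub_eq_zero.1 h2.1).symm, h2.2⟩
    have hr : ∀ j, r j = r 0 := fun j => by
      induction j with
      | zero => rfl
      | succ j ih => rw [(hstep j).1, ih]
    have hs : ∀ j, s j ∈ Ideal.span {u₀ ^ p ^ j} := by
      intro j
      refine hsep _ (hpq j) _ fun n => ?_
      have key : ∀ m, ∀ j' ≥ j, s j' ∈ Ideal.span {v ^ m} ⊔ Ideal.span {u₀ ^ p ^ j} := by
        intro m
        induction m with
        | zero => exact fun j' _ => Ideal.mem_sup_left (by simp)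
        | succ m ih =>
          intro j' hj'
          have hsub : Ideal.span {u₀ ^ p ^ j'} ≤ Ideal.span {u₀ ^ p ^ j} :=
            Ideal.span_singleton_le_span_singleton.2 (pow_dvd_pow _ (Nat.pow_le_pow_right (Fact.out : p.Prime).pos hj'))
          obtain ⟨y, hy, z, hz, hyz⟩ := Submodule.mem_sup.1 (ih (j' + 1) (by omega))
          obtain ⟨y, rfl⟩ := Ideal.mem_span_singleton'.1 hy
          have he : 1 ≤ (p - 1) * p ^ j' :=
            Nat.mul_pos (by have := (Fact.out : p.Prime).two_le; omega) (hpq j')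
          have h2 := hsub (hstep j').2
          rw [show s j' = (y * v ^ m) * (v ^ (p - 1)) ^ p ^ j' +
              (z * (v ^ (p - 1)) ^ p ^ j' + (s j' - s (j' + 1) * (v ^ (p - 1)) ^ p ^ j')) by rw [← hyz]; ring]
          refine add_mem (Ideal.mem_sup_left ?_) (Ideal.mem_sup_right (add_mem (Ideal.mul_mem_right _ _ hz) h2))
          rw [← pow_mul, mul_assoc, ← pow_add]
          exact Ideal.mul_mem_left _ _ (Ideal.mem_span_singleton.2 (pow_dvd_pow _ (by omega)))
      exact key n j le_rfl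
    refine ⟨r 0, Subtype.ext (funext fun j => ?_)⟩
    show tm p u₀ v j (r 0) 1 = _
    rw [hrs j, hr j]
    obtain ⟨t, ht⟩ := Ideal.mem_span_singleton'.1 (hs j)
    rw [← ht, ← tm_smul, u_mul_α]
    simp [tm]

end Groth.Agent.PrePerfSq
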